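import Mathlib
import Groth.Prelude.Def_W4c2filtblowupsingRees

/-!
The extended Rees algebra of a filtration: Noetherianity, `u` is regular, inverting `u` gives the Laurent
polynomial ring, and the primes over a prime of the base that avoid `u`.
-/

set_option autoImplicit false
set_option backward.isDefEq.respectTransparency false
set_option linter.style.haveILetI false

universe u

open Polynomial LaurentPolynomial FiltBl

namespace Groth.Agent.FiltBlLib

variable {A : Type u} [CommRing A] (𝓕 : IdealFiltration A)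

/-- `⊕_{n ≥ 0}` inside `⊕_{n ∈ ℤ}` -/
noncomputable def incl : 𝓕.rees →ₐ[A] 𝓕.extRees :=
  ((Polynomial.toLaurentAlg).comp 𝓕.rees.val).codRestrict 𝓕.extRees fun f n => by
    show (toLaurent (f : A[X])).coeff n ∈ 𝓕.F n.toNat
    rw [LaurentPolynomial.coeff_toLaurent]
    rcases n with n | n
    · show Finsupp.mapDomain Nat.castEmbedding (f : A[X]).toFinsupp.coeff (Nat.castEmbedding n) ∈ 𝓕.F n
      rw [Finsupp.mapDomain_apply Nat.castEmbedding.injective]
      exact f.2 n
    · rw [Finsupp.mapDomain_notin_range _ _ (fun ⟨m, hm⟩ => by simp at hm)]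
      exact Ideal.zero_mem _

theorem val_incl (f : 𝓕.rees) : ((incl 𝓕 f : 𝓕.extRees) : A[T;T⁻¹]) = toLaurent (f : A[X]) := rfl

theorem C_mul_T_mem {a : A} {n : ℤ} (ha : a ∈ 𝓕.F n.toNat) :
    LaurentPolynomial.C a * T n ∈ 𝓕.extRees := fun m => by
  classical
  rw [← single_eq_C_mul_T, AddMonoidAlgebra.coeff_single, Finsupp.single_apply]
  split_ifs with h
  · exact h ▸ ha
  · exact Ideal.zero_mem _

/-- `rees[U] → extRees`, `U ↦ u`. -/
noncomputable def present : (𝓕.rees)[X] →ₐ[A] 𝓕.extRees :=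
  Polynomial.aevalTower (incl 𝓕) 𝓕.u

theorem present_surjective : Function.Surjective (present 𝓕) := by
  classical
  intro f
  suffices h : (f : A[T;T⁻¹]) ∈ (𝓕.extRees.val.comp (present 𝓕)).range by
    obtain ⟨g, hg⟩ := h
    exact ⟨g, Subtype.ext hg⟩
  rw [← AddMonoidAlgebra.sum_coeff_single (f : A[T;T⁻¹])]
  refine sum_mem fun n _ => ?_
  rw [single_eq_C_mul_T]
  have ha : (f : A[T;T⁻¹]).coeff n ∈ 𝓕.F n.toNat := f.2 n
  generalize (f : A[T;T⁻¹]).coeff n = a at ha
  rcases n with k | k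
  · refine ⟨Polynomial.C ⟨Polynomial.monomial k a, fun m => ?_⟩, ?_⟩
    · rw [Polynomial.coeff_monomial]
      split_ifs with h
      · exact h ▸ ha
      · exact Ideal.zero_mem _
    · show ((present 𝓕 (Polynomial.C _) : 𝓕.extRees) : A[T;T⁻¹]) = _
      simp only [present, Polynomial.aevalTower_C, val_incl]
      rw [← Polynomial.C_mul_X_pow_eq_monomial, Polynomial.toLaurent_C_mul_X_pow]
      rfl
  · refine ⟨Polynomial.C (algebraMap A 𝓕.rees a) * Polynomial.X ^ (k + 1), ?_⟩
    show ((present 𝓕 _ : 𝓕.extRees) : A[T;T⁻¹]) = _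
    simp only [present, map_mul, map_pow, Polynomial.aevalTower_C, Polynomial.aevalTower_X, AlgHom.commutes]
    show algebraMap A A[T;T⁻¹] a * T (-1) ^ (k + 1) = _
    rw [T_pow, LaurentPolynomial.algebraMap_apply, Algebra.algebraMap_self, RingHom.id_apply]
    congr 2
    rw [Int.negSucc_eq]
    push_cast
    ring

theorem isNoetherianRing_extRees [IsNoetherianRing A] (hfg : Algebra.FiniteType A 𝓕.rees) :
    IsNoetherianRing 𝓕.extRees := by
  haveI := hfg
  haveI : IsNoetherianRing 𝓕.rees := Algebra.FiniteType.isNoetherianRing A _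
  exact isNoetherianRing_of_surjective _ _ (present 𝓕).toRingHom (present_surjective 𝓕)

theorem val_u : ((𝓕.u : 𝓕.extRees) : A[T;T⁻¹]) = T (-1) := rfl

theorem u_regular : IsSMulRegular 𝓕.extRees 𝓕.u := fun x y h => by
  refine Subtype.ext ((isUnit_T (R := A) (-1)).mul_left_cancel ?_)
  exact congrArg (fun z : 𝓕.extRees => (z : A[T;T⁻¹])) h

theorem isLocalization_extRees :
    IsLocalization (Submonoid.powers 𝓕.u) A[T;T⁻¹] := by
  refine { map_units := ?_, surj := ?_, exists_of_eq := ?_ }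
  · rintro ⟨_, k, rfl⟩
    show IsUnit (((𝓕.u ^ k : 𝓕.extRees)) : A[T;T⁻¹])
    rw [SubmonoidClass.coe_pow, val_u]
    exact (isUnit_T _).pow _
  · intro f
    obtain ⟨k, hk⟩ : ∃ k : ℕ, ∀ n ∈ f.coeff.support, n ≤ (k : ℤ) :=
      ⟨(f.coeff.support.sup fun n => n.toNat), fun n hn => by
        have h : n.toNat ≤ f.coeff.support.sup fun n => n.toNat := Finset.le_sup (f := fun n : ℤ => n.toNat) hn
        omega⟩
    refine ⟨⟨⟨f * T (-1) ^ k, ?_⟩, ⟨_, k, rfl⟩⟩, ?_⟩
    · rw [← AddMonoidAlgebra.sum_coeff_single f, Finsupp.sum, Finset.sum_mul]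
      refine sum_mem fun n hn => ?_
      rw [single_eq_C_mul_T, T_pow, mul_T_assoc]
      refine C_mul_T_mem 𝓕 ?_
      have := hk n hn
      rw [show (n + (k : ℤ) * (-1)).toNat = 0 by omega, 𝓕.zero_eq]
      exact Submodule.mem_top
    · show f * ((𝓕.u ^ k : 𝓕.extRees) : A[T;T⁻¹]) = f * T (-1) ^ k
      rw [SubmonoidClass.coe_pow, val_u]
  · intro x y h
    exact ⟨1, by rw [show x = y from Subtype.ext h]⟩

/-- Transfer of local rings along a localization. -/
theorem nonempty_equiv_localization {R S : Type u} [CommRing R] [CommRing S] [Algebra R S] (M : Submonoid R)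
    [IsLocalization M S] (Q : Ideal S) [Q.IsPrime] :
    Nonempty (Localization.AtPrime (Q.comap (algebraMap R S)) ≃+* Localization.AtPrime Q) := by
  haveI : IsLocalization.AtPrime (Localization.AtPrime Q) (Q.comap (algebraMap R S)) :=
    IsLocalization.isLocalization_isLocalization_atPrime_isLocalization M _ Q
  exact ⟨(IsLocalization.algEquiv (Q.comap (algebraMap R S)).primeCompl
      (Localization.AtPrime (Q.comap (algebraMap R S))) (Localization.AtPrime Q)).toRingEquiv⟩

theorem u_notMem_comap (Q : Ideal A[T;T⁻¹]) [Q.IsPrime] :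
    𝓕.u ∉ Q.comap (algebraMap 𝓕.extRees A[T;T⁻¹]) :=
  fun h => Ideal.IsPrime.ne_top inferInstance (Q.eq_top_of_isUnit_mem h (isUnit_T (-1)))

theorem exists_prime_of_u_notMem (P : Ideal 𝓕.extRees) [hP : P.IsPrime] (hu : 𝓕.u ∉ P) :
    ∃ (Q : Ideal A[T;T⁻¹]) (_ : Q.IsPrime), Q.comap (algebraMap 𝓕.extRees A[T;T⁻¹]) = P ∧
      Nonempty (Localization.AtPrime P ≃+* Localization.AtPrime Q) := by
  haveI := isLocalization_extRees 𝓕
  have hd : Disjoint (Submonoid.powers 𝓕.u : Set 𝓕.extRees) P := Set.disjoint_left.2 fun x ⟨k, hk⟩ hx =>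
    hu (hP.mem_of_pow_mem k (show 𝓕.u ^ k ∈ P from (show 𝓕.u ^ k = x from hk).symm ▸ hx))
  haveI := IsLocalization.isPrime_of_isPrime_disjoint _ A[T;T⁻¹] P hP hd
  have hc := IsLocalization.under_map_of_isPrime_disjoint _ A[T;T⁻¹] (I := P) hP hd
  refine ⟨P.map (algebraMap 𝓕.extRees A[T;T⁻¹]), inferInstance, hc, ?_⟩
  obtain ⟨e⟩ := nonempty_equiv_localization (Submonoid.powers 𝓕.u) (P.map (algebraMap 𝓕.extRees A[T;T⁻¹]))
  have key : ∀ (I : Ideal 𝓕.extRees) [I.IsPrime], I = P → ∀ (X : Type u) [CommRing X],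
      (Localization.AtPrime I ≃+* X) → Nonempty (Localization.AtPrime P ≃+* X) := by
    rintro I _ rfl X _ e
    exact ⟨e⟩
  exact key _ hc _ e

section Base

variable (q : Ideal A)

theorem coeff_mem_of_mem_map {g : A[T;T⁻¹]} (hg : g ∈ q.map (algebraMap A A[T;T⁻¹])) (n : ℤ) :
    g.coeff n ∈ q := by
  classical
  revert n
  refine Submodule.span_induction ?_ ?_ ?_ ?_ hg
  · rintro _ ⟨a, ha, rfl⟩ n
    rw [LaurentPolynomial.algebraMap_apply, Algebra.algebraMap_self, RingHom.id_apply, LaurentPolynomial.C_apply]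
    split_ifs
    · exact ha
    · exact q.zero_mem
  · intro n; simp
  · intro x y _ _ hx hy n
    rw [AddMonoidAlgebra.coeff_add, Finsupp.add_apply]
    exact q.add_mem (hx n) (hy n)
  · intro h x _ hx n
    rw [smul_eq_mul, AddMonoidAlgebra.coeff_mul]
    simp only [Finsupp.sum]
    refine Submodule.sum_mem _ fun i _ => Submodule.sum_mem _ fun j _ => ?_
    split_ifs
    · exact q.mul_mem_left _ (hx j)
    · exact q.zero_mem

/-- The prime `q·A[T,T⁻¹]` and its contraction. -/
theorem isPrime_map_laurent [hq : q.IsPrime] :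
    (q.map (algebraMap A A[T;T⁻¹])).IsPrime ∧ (q.map (algebraMap A A[T;T⁻¹])).comap (algebraMap A A[T;T⁻¹]) = q := by
  have hmap : q.map (algebraMap A A[T;T⁻¹]) = (q.map Polynomial.C).map (algebraMap A[X] A[T;T⁻¹]) := by
    rw [Ideal.map_map]
    congr 1
    refine RingHom.ext fun a => ?_
    rw [RingHom.comp_apply, LaurentPolynomial.algebraMap_eq_toLaurent, Polynomial.toLaurent_C,
      LaurentPolynomial.algebraMap_apply, Algebra.algebraMap_self, RingHom.id_apply]
  haveI : (q.map Polynomial.C).IsPrime := Ideal.isPrime_map_C_of_isPrime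
  refine ⟨?_, le_antisymm (fun a ha => ?_) Ideal.le_comap_map⟩
  · rw [hmap]
    refine IsLocalization.isPrime_of_isPrime_disjoint (Submonoid.powers (Polynomial.X : A[X])) _ _ inferInstance ?_
    refine Set.disjoint_left.2 fun x hk hx => hq.ne_top ((Ideal.eq_top_iff_one q).2 ?_)
    obtain ⟨k, rfl⟩ := hk
    have := Ideal.mem_map_C_iff.1 hx k
    simpa using this
  · have := coeff_mem_of_mem_map q ha 0
    simpa [LaurentPolynomial.algebraMap_apply, LaurentPolynomial.C_apply] using this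

theorem F_one_ne_top [Nontrivial A] (hsep : ⨅ n, 𝓕.F n = ⊥) : 𝓕.F 1 ≠ ⊤ := fun h => by
  have : ∀ n, 𝓕.F n = ⊤ := by
    intro n
    induction n with
    | zero => exact 𝓕.zero_eq
    | succ n ih =>
      have := 𝓕.mul_le n 1
      rw [ih, h, Ideal.top_mul] at this
      exact top_le_iff.1 this
  simp only [this, iInf_const] at hsep
  exact (bot_ne_top (α := Ideal A)) hsep.symm

/-- Over a local ring the prime `q·A[T,T⁻¹] ∩ R'` lies below a maximal ideal containing `u`. -/
theorem exists_maximal_above [IsLocalRing A] (hsep : ⨅ n, 𝓕.F n = ⊥) (hq : q ≠ ⊤) :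
    ∃ M : Ideal 𝓕.extRees, M.IsMaximal ∧ 𝓕.u ∈ M ∧
      (q.map (algebraMap A A[T;T⁻¹])).comap (algebraMap 𝓕.extRees A[T;T⁻¹]) ≤ M := by
  classical
  have hF : ∀ k, 0 < k → 𝓕.F k ≤ IsLocalRing.maximalIdeal A := fun k hk =>
    (𝓕.antitone hk).trans (IsLocalRing.le_maximalIdeal (F_one_ne_top 𝓕 hsep))
  let M0 : Ideal 𝓕.extRees :=
    { carrier := {f | (f : A[T;T⁻¹]).coeff 0 ∈ IsLocalRing.maximalIdeal A}
      add_mem' := fun {x y} hx hy => by
        show ((x : A[T;T⁻¹]) + y).coeff 0 ∈ IsLocalRing.maximalIdeal A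
        rw [AddMonoidAlgebra.coeff_add, Finsupp.add_apply]; exact Ideal.add_mem _ hx hy
      zero_mem' := by simp
      smul_mem' := fun h x hx => by
        show ((h : A[T;T⁻¹]) * x).coeff 0 ∈ IsLocalRing.maximalIdeal A
        rw [AddMonoidAlgebra.coeff_mul]
        simp only [Finsupp.sum]
        refine Submodule.sum_mem _ fun i _ => Submodule.sum_mem _ fun j _ => ?_
        split_ifs with hij
        · rcases lt_trichotomy i 0 with hi | hi | hi
          · exact Ideal.mul_mem_left _ _ (hF j.toNat (by omega) (x.2 j))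
          · exact Ideal.mul_mem_left _ _ (show (x : A[T;T⁻¹]).coeff j ∈ _ from (show j = 0 by omega) ▸ hx)
          · exact Ideal.mul_mem_right _ _ (hF i.toNat (by omega) (h.2 i))
        · exact Ideal.zero_mem _ }
  have hM0 : M0 ≠ ⊤ := fun h => by
    have h1 : ((1 : 𝓕.extRees) : A[T;T⁻¹]).coeff 0 ∈ IsLocalRing.maximalIdeal A := (Ideal.eq_top_iff_one M0).1 h
    rw [OneMemClass.coe_one, ← T_zero, T_apply, if_pos rfl] at h1
    exact (IsLocalRing.maximalIdeal.isMaximal A).ne_top ((Ideal.eq_top_iff_one _).2 h1)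
  obtain ⟨M, hM, hle⟩ := Ideal.exists_le_maximal M0 hM0
  refine ⟨M, hM, hle ?_, fun f hf => hle ?_⟩
  · show (T (-1) : A[T;T⁻¹]).coeff 0 ∈ IsLocalRing.maximalIdeal A
    rw [T_apply, if_neg (by omega)]
    exact Ideal.zero_mem _
  · exact IsLocalRing.le_maximalIdeal hq (coeff_mem_of_mem_map q hf 0)

/-- `F¹ ⊄ q` exactly when the contraction of a prime over `q` avoids the positive part. -/
theorem posPart_le_comap_iff (Q : Ideal A[T;T⁻¹]) [hQ : Q.IsPrime] :
    Ideal.span {x : 𝓕.extRees | ∃ n : ℕ, 0 < n ∧ ∃ a ∈ 𝓕.F n,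
      (x : A[T;T⁻¹]) = LaurentPolynomial.C a * T (n : ℤ)} ≤ Q.comap (algebraMap 𝓕.extRees A[T;T⁻¹]) ↔
      𝓕.F 1 ≤ Q.comap (algebraMap A A[T;T⁻¹]) := by
  constructor
  · intro h a ha
    have hx := h (Ideal.subset_span (s := {x : 𝓕.extRees | ∃ n : ℕ, 0 < n ∧ ∃ a ∈ 𝓕.F n,
      (x : A[T;T⁻¹]) = LaurentPolynomial.C a * T (n : ℤ)})
      (show (⟨_, C_mul_T_mem 𝓕 (n := ((1 : ℕ) : ℤ)) (by simpa using ha)⟩ : 𝓕.extRees) ∈ _ from
        ⟨1, Nat.one_pos, a, ha, rfl⟩))
    have hx' : LaurentPolynomial.C a * T ((1 : ℕ) : ℤ) ∈ Q := hx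
    rcases hQ.mem_or_mem hx' with h1 | h1
    · rw [Ideal.mem_comap, LaurentPolynomial.algebraMap_apply, Algebra.algebraMap_self, RingHom.id_apply]
      exact h1
    · exact absurd (Q.eq_top_of_isUnit_mem h1 (isUnit_T _)) hQ.ne_top
  · intro h
    refine Ideal.span_le.2 ?_
    rintro x ⟨n, hn, a, ha, hx⟩
    show (x : A[T;T⁻¹]) ∈ Q
    rw [hx]
    have := h (𝓕.antitone hn ha)
    rw [Ideal.mem_comap, LaurentPolynomial.algebraMap_apply, Algebra.algebraMap_self, RingHom.id_apply] at this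
    exact Q.mul_mem_right _ this

end Base

/-- The local rings of a quotient by one element. -/
theorem nonempty_equiv_quot {R G : Type u} [CommRing R] [CommRing G] (φ : R →+* G) (hφ : Function.Surjective φ)
    (f : R) (hker : RingHom.ker φ = Ideal.span {f}) (p : Ideal G) [p.IsPrime] :
    Nonempty ((Localization.AtPrime (p.comap φ) ⧸ Ideal.span {algebraMap R (Localization.AtPrime (p.comap φ)) f}) ≃+*
      Localization.AtPrime p) := by
  letI := φ.toAlgebra
  set P := p.comap φ
  haveI : p.LiesOver P := ⟨rfl⟩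
  have hsub : Algebra.algebraMapSubmonoid G P.primeCompl = p.primeCompl :=
    Ideal.algebraMapSubmonoid_primeCompl_of_liesOver_surjective p P hφ
  let e : (R ⧸ Ideal.span {f}) ≃+* G :=
    (Ideal.quotEquivOfEq hker.symm).trans (RingHom.quotientKerEquivOfSurjective hφ)
  let J := Ideal.span {algebraMap R (Localization.AtPrime P) f}
  have hJ : J = (Ideal.span {f}).map (algebraMap R (Localization.AtPrime P)) := by
    rw [Ideal.map_span, Set.image_singleton]
  let g : G →+* Localization.AtPrime P ⧸ J :=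
    (Ideal.quotientMap J (algebraMap R (Localization.AtPrime P))
      (by rw [hJ]; exact Ideal.le_comap_map)).comp e.symm.toRingHom
  letI := g.toAlgebra
  have hg : ∀ r, g (φ r) = Ideal.Quotient.mk J (algebraMap R (Localization.AtPrime P) r) := fun r => by
    simp only [g, RingHom.comp_apply, RingEquiv.toRingHom_eq_coe, RingHom.coe_coe]
    rw [show φ r = e (Ideal.Quotient.mk (Ideal.span {f}) r) from rfl, e.symm_apply_apply, Ideal.quotientMap_mk]
  haveI : IsLocalization p.primeCompl (Localization.AtPrime P ⧸ J) := by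
    refine { map_units := ?_, surj := ?_, exists_of_eq := ?_ }
    · rintro ⟨y, hy⟩
      obtain ⟨r, rfl⟩ := hφ y
      show IsUnit (g (φ r))
      rw [hg]
      exact (IsLocalization.map_units (Localization.AtPrime P) (⟨r, hy⟩ : P.primeCompl)).map _
    · intro z
      obtain ⟨z, rfl⟩ := Ideal.Quotient.mk_surjective z
      obtain ⟨⟨r, s⟩, hrs⟩ := IsLocalization.surj P.primeCompl z
      refine ⟨⟨φ r, ⟨φ s, s.2⟩⟩, ?_⟩
      show _ * g (φ s) = g (φ r)
      rw [hg, hg, ← map_mul, hrs]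
    · intro x y h
      obtain ⟨x, rfl⟩ := hφ x
      obtain ⟨y, rfl⟩ := hφ y
      change g (φ x) = g (φ y) at h
      rw [hg, hg, Ideal.Quotient.eq, ← map_sub, hJ] at h
      obtain ⟨s, hs, hsm⟩ := (IsLocalization.algebraMap_mem_map_algebraMap_iff P.primeCompl _ _ _).1 h
      refine ⟨⟨φ s, hs⟩, ?_⟩
      have : φ (s * (x - y)) = 0 := by rw [← RingHom.mem_ker, hker]; exact hsm
      show φ s * φ x = φ s * φ y
      rw [← sub_eq_zero, ← mul_sub, ← map_sub, ← map_mul, this]
  exact ⟨(IsLocalization.algEquiv p.primeCompl (Localization.AtPrime P ⧸ J) (Localization.AtPrime p)).toRingEquiv⟩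

end Groth.Agent.FiltBlLib
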