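import Groth.Agent.FiltBlLib.Basic
import Groth.Agent.FlatDepth.Fibres
import Groth.Agent.CILib.SyntomicCMSk
import Groth.Agent.CMFlatLib.FlatLocal
import Groth.Agent.GorLib.Ring

/-!
Moving a local property between the base ring, the extended Rees algebra and the associated graded ring.
-/

set_option autoImplicit false
set_option backward.isDefEq.respectTransparency false
set_option linter.style.haveILetI false

universe u

open IsLocalRing Polynomial LaurentPolynomial FiltBl

namespace Groth.Agent.FiltBlLib

/-- A local property that ascends and descends along flat local maps with nice closed fibre. -/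
structure FlatStable (P : ∀ (R : Type u) [CommRing R], Prop) : Prop where
  iso : ∀ (A B : Type u) [CommRing A] [CommRing B] [IsNoetherianRing A], (A ≃+* B) → P A → P B
  asc : ∀ (A B : Type u) [CommRing A] [CommRing B] [IsLocalRing A] [IsLocalRing B] [IsNoetherianRing A]
    [IsNoetherianRing B] [Algebra A B] [IsLocalHom (algebraMap A B)] [Module.Flat A B],
    P A → P (B ⧸ (maximalIdeal A).map (algebraMap A B)) → P B
  reg : ∀ (A : Type u) [CommRing A] [IsRegularLocalRing A], P A
  desc : ∀ (A B : Type u) [CommRing A] [CommRing B] [IsLocalRing A] [IsLocalRing B] [IsNoetherianRing A]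
    [IsNoetherianRing B] [Algebra A B] [IsLocalHom (algebraMap A B)] [Module.Flat A B],
    (maximalIdeal A).map (algebraMap A B) = maximalIdeal B → P B → P A

theorem isField_fibre {A B : Type u} [CommRing A] [CommRing B] [IsLocalRing A] [IsLocalRing B]
    [Algebra A B] (h : (maximalIdeal A).map (algebraMap A B) = maximalIdeal B) :
    ((maximalIdeal A).map (algebraMap A B)).IsMaximal := h ▸ maximalIdeal.isMaximal B

theorem flatStable_cm : FlatStable.{u} (fun R [CommRing R] => LocCoh.IsCohenMacaulayLocalRing R) where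
  iso A B _ _ _ e h := haveI := h; CMCat.isCohenMacaulayLocalRing_of_ringEquiv e
  asc A B _ _ _ _ _ _ _ _ _ h1 h2 := (FlatDepth.cm_ascend_descend A B).2 ⟨h1, h2⟩
  reg A _ _ := by
    haveI : IsNoetherianRing A := inferInstance
    haveI := GorLib.gorensteinLocal_of_regular A
    exact GorLib.isCohenMacaulay A inferInstance
  desc A B _ _ _ _ _ _ _ _ _ _ hB := ((FlatDepth.cm_ascend_descend A B).1 hB).1

theorem flatStable_gor : FlatStable.{u} (fun R [CommRing R] => LocCoh.IsGorensteinLocalRing R) where
  iso A B _ _ _ e h := GorLib.gorenstein_of_ringEquiv e h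
  asc A B _ _ _ _ _ _ _ _ _ h1 h2 := (GorLib.gorenstein_flat_iff A B).2 ⟨h1, h2⟩
  reg A _ _ := GorLib.gorensteinLocal_of_regular A
  desc A B _ _ _ _ _ _ _ _ _ _ hB := ((GorLib.gorenstein_flat_iff A B).1 hB).1

theorem flatStable_sk (k : ℕ) : FlatStable.{u} (fun R [CommRing R] => FlatDepth.SkLocal k R) where
  iso A B _ _ _ e h := FlatDepth.skLocal_of_ringEquiv e h
  asc A B _ _ _ _ _ _ _ _ _ h1 h2 := FlatDepth.skLocal_ascend A B h1 h2
  reg A _ _ := by
    haveI := flatStable_cm.reg A
    exact CILib.skLocal_of_cm k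
  desc A B _ _ _ _ _ _ _ _ _ hmap hB := by
    haveI := isField_fibre hmap
    letI := Ideal.Quotient.field ((maximalIdeal A).map (algebraMap A B))
    exact CILib.skLocal_descend A B inferInstance hB

section Poly

variable {P : ∀ (R : Type u) [CommRing R], Prop} (hP : FlatStable P)
include hP

/-- Lifting at one point of a flat map, from the point below and the fibre. -/
theorem lift_prime (R S : Type u) [CommRing R] [CommRing S] [IsNoetherianRing R] [IsNoetherianRing S] [Algebra R S]
    [Module.Flat R S] (q : Ideal S) [q.IsPrime] (hR : P (Localization.AtPrime (q.comap (algebraMap R S))))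
    (hfib : ∀ (p : Ideal R) [p.IsPrime] (Q : Ideal (p.Fiber S)) [Q.IsPrime], P (Localization.AtPrime Q)) :
    P (Localization.AtPrime q) := by
  set p := q.comap (algebraMap R S)
  haveI : q.LiesOver p := ⟨rfl⟩
  let e := PrimeSpectrum.preimageEquivFiber R S ⟨p, inferInstance⟩
  let Q := e ⟨⟨q, inferInstance⟩, rfl⟩
  have hQ : Q.asIdeal.comap (Algebra.TensorProduct.includeRight : S →ₐ[R] p.Fiber S) = q := by
    have := congrArg (fun x => x.1.asIdeal) (e.symm_apply_apply ⟨⟨q, inferInstance⟩, rfl⟩)
    exact this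
  have hF := hfib p Q.asIdeal
  set r := Q.asIdeal.comap (Algebra.TensorProduct.includeRight : S →ₐ[R] p.Fiber S) with hr
  haveI : r.IsPrime := Ideal.IsPrime.comap _
  suffices P (Localization.AtPrime r) by
    exact (show ∀ (I : Ideal S) (_ : I.IsPrime), I = r → P (Localization.AtPrime I) from
      fun I _ e => by subst e; exact this) q inferInstance hQ.symm
  haveI : r.LiesOver p := ⟨hQ ▸ rfl⟩
  letI : Algebra (Localization.AtPrime p) (Localization.AtPrime r) := Localization.AtPrime.algebraOfLiesOver p r
  haveI := Localization.isLocalHom_localRingHom p r (algebraMap R S) (Ideal.over_def r p)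
  haveI : IsLocalHom (algebraMap (Localization.AtPrime p) (Localization.AtPrime r)) := this
  haveI : IsNoetherianRing (Localization.AtPrime r) := IsLocalization.isNoetherianRing r.primeCompl _ inferInstance
  haveI : IsNoetherianRing (Localization.AtPrime p) := IsLocalization.isNoetherianRing p.primeCompl _ inferInstance
  have e2 := Ideal.Fiber.localizationAlgEquivQuotient p Q.asIdeal
  have hmap : p.map (algebraMap R (Localization.AtPrime r)) =
      (maximalIdeal (Localization.AtPrime p)).map (algebraMap (Localization.AtPrime p) (Localization.AtPrime r)) := by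
    rw [← Localization.AtPrime.map_eq_maximalIdeal, Ideal.map_map, ← IsScalarTower.algebraMap_eq]
  let e3 := e2.toRingEquiv.trans (Ideal.quotEquivOfEq hmap)
  haveI : IsNoetherianRing (Localization.AtPrime Q.asIdeal) := isNoetherianRing_of_ringEquiv _ e3.symm
  exact hP.asc (Localization.AtPrime p) (Localization.AtPrime r) hR (hP.iso _ _ e3 hF)

/-- From `A_q` to the local rings of `A[T,T⁻¹]` over `q`. -/
theorem laurent_of_base (A : Type u) [CommRing A] [IsNoetherianRing A] (Q : Ideal A[T;T⁻¹]) [Q.IsPrime]
    (h : P (Localization.AtPrime (Q.comap (algebraMap A A[T;T⁻¹])))) : P (Localization.AtPrime Q) := by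
  obtain ⟨e⟩ := nonempty_equiv_localization (Submonoid.powers (Polynomial.X : A[X])) Q
  haveI : IsNoetherianRing (Localization.AtPrime (Q.comap (algebraMap A[X] A[T;T⁻¹]))) :=
    IsLocalization.isNoetherianRing (Q.comap (algebraMap A[X] A[T;T⁻¹])).primeCompl _ inferInstance
  refine hP.iso _ _ e ?_
  refine lift_prime hP A A[X] _ ?_ fun p _ R _ => ?_
  · have hc : (Q.comap (algebraMap A[X] A[T;T⁻¹])).comap (algebraMap A A[X]) = Q.comap (algebraMap A A[T;T⁻¹]) := by
      rw [Ideal.comap_comap]
      congr 1
      refine RingHom.ext fun a => ?_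
      rw [RingHom.comp_apply, LaurentPolynomial.algebraMap_eq_toLaurent, Polynomial.algebraMap_apply,
        Algebra.algebraMap_self, RingHom.id_apply, Polynomial.toLaurent_C,
        LaurentPolynomial.algebraMap_apply, Algebra.algebraMap_self, RingHom.id_apply]
    exact (show ∀ (I : Ideal A) (_ : I.IsPrime), I = Q.comap (algebraMap A A[T;T⁻¹]) → P (Localization.AtPrime I) from
      fun I _ e => by subst e; exact h) _ inferInstance hc
  · haveI : IsRegularRing (p.Fiber A[X]) :=
      IsRegularRing.of_ringEquiv (polyEquivTensor A p.ResidueField).toRingEquiv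
    haveI := isRegularRing_iff.1 (inferInstance : IsRegularRing (p.Fiber A[X])) R
    exact hP.reg _

/-- From the local ring of `A[T,T⁻¹]` at `q·A[T,T⁻¹]` to `A_q`. -/
theorem base_of_laurent (A : Type u) [CommRing A] [IsNoetherianRing A] (q : Ideal A) [q.IsPrime]
    [(q.map (algebraMap A A[T;T⁻¹])).IsPrime] (hq : (q.map (algebraMap A A[T;T⁻¹])).comap (algebraMap A A[T;T⁻¹]) = q)
    (h : P (Localization.AtPrime (q.map (algebraMap A A[T;T⁻¹])))) : P (Localization.AtPrime q) := by
  set Q := q.map (algebraMap A A[T;T⁻¹])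
  haveI : IsNoetherianRing A[T;T⁻¹] :=
    IsLocalization.isNoetherianRing (Submonoid.powers (Polynomial.X : A[X])) _ inferInstance
  haveI : Q.LiesOver q := ⟨hq.symm⟩
  letI : Algebra (Localization.AtPrime q) (Localization.AtPrime Q) := Localization.AtPrime.algebraOfLiesOver q Q
  haveI : IsLocalHom (algebraMap (Localization.AtPrime q) (Localization.AtPrime Q)) :=
    Localization.isLocalHom_localRingHom q Q (algebraMap A A[T;T⁻¹]) (Ideal.over_def Q q)
  haveI : IsNoetherianRing (Localization.AtPrime q) := IsLocalization.isNoetherianRing q.primeCompl _ inferInstance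
  haveI : IsNoetherianRing (Localization.AtPrime Q) := IsLocalization.isNoetherianRing Q.primeCompl _ inferInstance
  refine hP.desc _ (Localization.AtPrime Q) ?_ h
  rw [← Localization.AtPrime.map_eq_maximalIdeal, Ideal.map_map, ← IsScalarTower.algebraMap_eq,
    IsScalarTower.algebraMap_eq A A[T;T⁻¹], ← Ideal.map_map, Localization.AtPrime.map_eq_maximalIdeal]

/-- Off `u`, the property of `R'` follows from the property of the base. -/
theorem extRees_of_base {A : Type u} [CommRing A] [IsNoetherianRing A] (𝓕 : IdealFiltration A)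
    (P' : Ideal 𝓕.extRees) [P'.IsPrime] (hu : 𝓕.u ∉ P')
    (h : ∀ (Q : Ideal A[T;T⁻¹]) [Q.IsPrime], Q.comap (algebraMap 𝓕.extRees A[T;T⁻¹]) = P' →
      P (Localization.AtPrime (Q.comap (algebraMap A A[T;T⁻¹])))) : P (Localization.AtPrime P') := by
  obtain ⟨Q, hQ, hc, ⟨e⟩⟩ := exists_prime_of_u_notMem 𝓕 P' hu
  haveI : IsNoetherianRing A[T;T⁻¹] :=
    IsLocalization.isNoetherianRing (Submonoid.powers (Polynomial.X : A[X])) _ inferInstance
  haveI : IsNoetherianRing (Localization.AtPrime Q) := IsLocalization.isNoetherianRing Q.primeCompl _ inferInstance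
  exact hP.iso _ _ e.symm (laurent_of_base hP A Q (h Q hc))

/-- The base from the local ring of `R'` at `q·A[T,T⁻¹] ∩ R'`. -/
theorem base_of_extRees {A : Type u} [CommRing A] [IsNoetherianRing A] (𝓕 : IdealFiltration A)
    [IsNoetherianRing 𝓕.extRees] (q : Ideal A) [q.IsPrime]
    (h : ∀ (P' : Ideal 𝓕.extRees) [P'.IsPrime],
      P' = (q.map (algebraMap A A[T;T⁻¹])).comap (algebraMap 𝓕.extRees A[T;T⁻¹]) → P (Localization.AtPrime P')) :
    P (Localization.AtPrime q) := by
  obtain ⟨hQ, hq⟩ := isPrime_map_laurent q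
  haveI := hQ
  haveI := isLocalization_extRees 𝓕
  obtain ⟨e⟩ := nonempty_equiv_localization (Submonoid.powers 𝓕.u) (q.map (algebraMap A A[T;T⁻¹]))
  haveI : IsNoetherianRing (Localization.AtPrime ((q.map (algebraMap A A[T;T⁻¹])).comap (algebraMap 𝓕.extRees A[T;T⁻¹]))) :=
    IsLocalization.isNoetherianRing (R := 𝓕.extRees) ((q.map (algebraMap A A[T;T⁻¹])).comap (algebraMap 𝓕.extRees A[T;T⁻¹])).primeCompl _ inferInstance
  exact base_of_laurent hP A q hq (hP.iso _ _ e (h _ rfl))

end Poly

/-- Generization inside one local ring. -/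
theorem of_le {P : ∀ (R : Type u) [CommRing R], Prop}
    (hiso : ∀ (X Y : Type u) [CommRing X] [CommRing Y] [IsNoetherianRing X], (X ≃+* Y) → P X → P Y)
    {R : Type u} [CommRing R] [IsNoetherianRing R] (M P' : Ideal R) [M.IsPrime] [P'.IsPrime] (hle : P' ≤ M)
    (h : ∀ (Q : Ideal (Localization.AtPrime M)) [Q.IsPrime], P (Localization.AtPrime Q)) :
    P (Localization.AtPrime P') := by
  have hd : Disjoint (M.primeCompl : Set R) P' := Set.disjoint_left.2 fun x hx hx' => hx (hle hx')
  haveI := IsLocalization.isPrime_of_isPrime_disjoint M.primeCompl (Localization.AtPrime M) P' inferInstance hd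
  have hc := IsLocalization.under_map_of_isPrime_disjoint M.primeCompl (Localization.AtPrime M) (I := P') inferInstance hd
  obtain ⟨e⟩ := nonempty_equiv_localization M.primeCompl (P'.map (algebraMap R (Localization.AtPrime M)))
  haveI : IsNoetherianRing (Localization.AtPrime M) := IsLocalization.isNoetherianRing M.primeCompl _ inferInstance
  haveI : IsNoetherianRing (Localization.AtPrime (P'.map (algebraMap R (Localization.AtPrime M)))) :=
    IsLocalization.isNoetherianRing (P'.map (algebraMap R (Localization.AtPrime M))).primeCompl _ inferInstance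
  exact (show ∀ (I : Ideal R) (_ : I.IsPrime), I = P' → P (Localization.AtPrime I) → P (Localization.AtPrime P')
    from fun I _ e h => by subst e; exact h) _ inferInstance hc (hiso _ _ e.symm (h _))

section Quot

/-- `B` and `B/(f)` for a regular `f` in the maximal ideal. -/
theorem dim_depth_quot {B : Type u} [CommRing B] [IsLocalRing B] [IsNoetherianRing B] {f : B}
    (hf : f ∈ maximalIdeal B) (hreg : IsSMulRegular B f) [IsLocalRing (B ⧸ Ideal.span {f})] :
    ringKrullDim (B ⧸ Ideal.span {f}) + 1 = ringKrullDim B ∧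
      LocCoh.depth (B ⧸ Ideal.span {f}) (B ⧸ Ideal.span {f}) + 1 = LocCoh.depth B B := by
  refine ⟨ringKrullDim_quotient_span_singleton_succ_eq_ringKrullDim hreg hf, ?_⟩
  rw [FlatDepth.depth_of_surjective (S := B) (R := B ⧸ Ideal.span {f}) Ideal.Quotient.mk_surjective
    (B ⧸ Ideal.span {f}), ← Depth.depth_congr (CMFlatLib.quotSMulTopSelfEquiv B f)]
  exact FlatDepth.depth_quotSMulTop (M := B) hf hreg

theorem skLocal_quot_iff {B : Type u} [CommRing B] [IsLocalRing B] [IsNoetherianRing B] {f : B} (k : ℕ)
    (hf : f ∈ maximalIdeal B) (hreg : IsSMulRegular B f) :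
    FlatDepth.SkLocal (k + 1) B ↔ FlatDepth.SkLocal k (B ⧸ Ideal.span {f}) := by
  haveI := GorLib.isLocalRing_quot_span hf
  obtain ⟨h1, h2⟩ := dim_depth_quot hf hreg
  obtain ⟨a, d, ha, hd, -⟩ := FlatDepth.exists_invariants (B ⧸ Ideal.span {f})
  obtain ⟨c, e, hc, he, -⟩ := FlatDepth.exists_invariants B
  rw [ha, hc] at h1
  rw [hd, he] at h2
  have e1 : a + 1 = c := by exact_mod_cast h1
  have e2 : d + 1 = e := by exact_mod_cast h2
  have hmin : ∀ x y : ℕ, min (x : WithBot ℕ∞) (y : WithBot ℕ∞) = ((min x y : ℕ) : WithBot ℕ∞) :=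
    fun x y => (Nat.mono_cast.map_min (a := x) (b := y)).symm
  constructor
  · rintro ⟨_, h⟩
    rw [hc, he, hmin] at h
    refine ⟨inferInstance, ?_⟩
    rw [ha, hd, hmin]
    have : min (k + 1) c ≤ e := by exact_mod_cast h
    exact_mod_cast (by omega : min k a ≤ d)
  · rintro ⟨_, h⟩
    rw [ha, hd, hmin] at h
    refine ⟨inferInstance, ?_⟩
    rw [hc, he, hmin]
    have : min k a ≤ d := by exact_mod_cast h
    exact_mod_cast (by omega : min (k + 1) c ≤ e)

variable {P Pbar : ∀ (R : Type u) [CommRing R], Prop}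

/-- The primes containing `u` correspond to the primes of the graded ring. -/
theorem forall_iff_graded {A : Type u} [CommRing A] (𝓕 : IdealFiltration A)
    [IsNoetherianRing 𝓕.extRees] {G : Type u} [CommRing G] (φ : 𝓕.extRees →+* G) (hφ : Function.Surjective φ)
    (hker : RingHom.ker φ = Ideal.span {𝓕.u})
    (hiso : ∀ (X Y : Type u) [CommRing X] [CommRing Y] [IsNoetherianRing X], (X ≃+* Y) → Pbar X → Pbar Y)
    (hquot : ∀ (B : Type u) [CommRing B] [IsLocalRing B] [IsNoetherianRing B] (f : B),
      f ∈ maximalIdeal B → IsSMulRegular B f → (P B ↔ Pbar (B ⧸ Ideal.span {f})))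
    (S : Ideal 𝓕.extRees → Prop) :
    (∀ (P' : Ideal 𝓕.extRees) [P'.IsPrime], 𝓕.u ∈ P' → S P' → P (Localization.AtPrime P')) ↔
      ∀ (p : Ideal G) [p.IsPrime], S (p.comap φ) → Pbar (Localization.AtPrime p) := by
  have key : ∀ (p : Ideal G) [p.IsPrime], P (Localization.AtPrime (p.comap φ)) ↔ Pbar (Localization.AtPrime p) := by
    intro p _
    obtain ⟨e⟩ := nonempty_equiv_quot φ hφ 𝓕.u hker p
    haveI : IsNoetherianRing (Localization.AtPrime (p.comap φ)) :=
      IsLocalization.isNoetherianRing (p.comap φ).primeCompl _ inferInstance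
    haveI : IsNoetherianRing (Localization.AtPrime p) := isNoetherianRing_of_ringEquiv _ e
    have hmem : 𝓕.u ∈ p.comap φ := by
      rw [Ideal.mem_comap, (RingHom.mem_ker).1 (hker ▸ Ideal.mem_span_singleton_self 𝓕.u)]
      exact p.zero_mem
    have hm : algebraMap _ (Localization.AtPrime (p.comap φ)) 𝓕.u ∈ maximalIdeal _ :=
      (IsLocalization.AtPrime.to_map_mem_maximal_iff _ (p.comap φ) _).2 hmem
    rw [hquot _ _ hm ((u_regular 𝓕).of_isLocalization (Localization.AtPrime (p.comap φ)) (p.comap φ).primeCompl)]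
    exact ⟨hiso _ _ e, hiso _ _ e.symm⟩
  constructor
  · intro h p _ hS
    exact (key p).1 (h _ (by
      rw [Ideal.mem_comap, (RingHom.mem_ker).1 (hker ▸ Ideal.mem_span_singleton_self 𝓕.u)]; exact p.zero_mem) hS)
  · intro h P' _ hu hS
    have hle : RingHom.ker φ ≤ P' := hker ▸ (Ideal.span_singleton_le_iff_mem _).2 hu
    haveI : (P'.map φ).IsPrime := Ideal.map_isPrime_of_surjective hφ hle
    have hc : (P'.map φ).comap φ = P' := by
      rw [Ideal.comap_map_of_surjective φ hφ, ← RingHom.ker_eq_comap_bot]
      exact sup_eq_left.2 hle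
    exact (show ∀ (I : Ideal 𝓕.extRees) (_ : I.IsPrime), I = P' → P (Localization.AtPrime I) → P (Localization.AtPrime P')
      from fun I _ e h => by subst e; exact h) _ inferInstance hc ((key _).2 (h _ (by rw [hc]; exact hS)))

end Quot

end Groth.Agent.FiltBlLib
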